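import Groth.Agent.L10.RelPC.MixedAmp
import Groth.Agent.L10.RelPC.TorFlatBC
import Groth.Agent.L04.KSix.NearStalk
import Groth.Agent.L04.KSix.FreeStalk
import Groth.Agent.L29.DCoh.TorTest
import Groth.Agent.L29.DCoh.TildeAlg

/-!
Tor amplitude of a complex at a point, computed on an affine chart by a localisation upstairs.
-/

set_option autoImplicit false
set_option linter.style.haveILetI false
set_option backward.isDefEq.respectTransparency false
set_option backward.isDefEq.respectTransparency.types false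
set_option backward.defeqAttrib.useBackward true

universe u

open CategoryTheory CategoryTheory.Limits AlgebraicGeometry TensorProduct

attribute [local instance] HasDerivedCategory.standard

namespace Groth.Lead.PerfAmp

open Groth.L00

section Alg

variable {R R' B B' : Type u} [CommRing R] [CommRing R'] [CommRing B] [CommRing B']

/-- the unit of extension of scalars to a localisation is a localisation map -/
theorem isLocalizedModule_unit (σ : R →+* R') (S : Submonoid R)
    (hσ : letI := σ.toAlgebra; IsLocalization S R') (N : ModuleCat.{u} R) :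
    IsLocalizedModule S ((ModuleCat.extendRestrictScalarsAdj.{u, u, u} σ).unit.app N).hom := by
  letI := σ.toAlgebra
  haveI := hσ
  exact (inferInstance : IsLocalizedModule S (TensorProduct.mk R R' N 1))

/-- a localisation of modules seen over a ring surjecting onto the base -/
theorem isLocalizedModule_restrict (φ : R →+* B) (hφ : Function.Surjective φ) (S : Submonoid R)
    {N X : ModuleCat.{u} B} (g : N ⟶ X) (hg : IsLocalizedModule (S.map φ) g.hom) :
    IsLocalizedModule S ((ModuleCat.restrictScalars.{u} φ).map g).hom := by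
  haveI := hg
  refine ⟨fun s => ?_, fun x => ?_, fun {x₁ x₂} h => ?_⟩
  · have hu := IsLocalizedModule.map_units g.hom (S := S.map φ) ⟨φ s, s.1, s.2, rfl⟩
    rw [Module.End.isUnit_iff] at hu ⊢
    exact hu
  · obtain ⟨⟨n, t, s, hs, hst⟩, he⟩ := IsLocalizedModule.surj (S := S.map φ) (f := g.hom) x
    refine ⟨⟨n, ⟨s, hs⟩⟩, ?_⟩
    change φ s • (show X from x) = g.hom n
    rw [hst]
    exact he
  · obtain ⟨⟨t, s, hs, hst⟩, he⟩ := IsLocalizedModule.exists_of_eq (S := S.map φ) (f := g.hom) h
    refine ⟨⟨s, hs⟩, ?_⟩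
    change φ s • (show N from x₁) = φ s • (show N from x₂)
    rw [hst]
    exact he

variable (σ : R →+* R') (ψ : B →+* B') (φ : R →+* B) (φ' : R' →+* B') (hc : φ'.comp σ = ψ.comp φ)

/-- the comparison of the two base changes -/
noncomputable def bcNat :
    ModuleCat.restrictScalars.{u} φ ⋙ ModuleCat.extendScalars.{u, u, u} σ ⟶
      ModuleCat.extendScalars.{u, u, u} ψ ⋙ ModuleCat.restrictScalars.{u} φ' where
  app N := ((ModuleCat.extendRestrictScalarsAdj.{u, u, u} σ).homEquiv _ _).symm
    ((ModuleCat.restrictScalars.{u} φ).map ((ModuleCat.extendRestrictScalarsAdj.{u, u, u} ψ).unit.app N) ≫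
      (ModuleCat.restrictScalarsComp'App.{u} φ ψ (ψ.comp φ) rfl _).inv ≫
        (ModuleCat.restrictScalarsComp'App.{u} σ φ' (ψ.comp φ) hc.symm _).hom)
  naturality N N' g := by
    dsimp only [Functor.comp_map]
    rw [← Adjunction.homEquiv_naturality_left_symm, ← Adjunction.homEquiv_naturality_right_symm]
    congr 1

theorem isIso_bcNat_app (hφ : Function.Surjective φ) (S : Submonoid R)
    (hσ : letI := σ.toAlgebra; IsLocalization S R')
    (hψ : letI := ψ.toAlgebra; IsLocalization (S.map φ) B') (N : ModuleCat.{u} B) :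
    IsIso ((bcNat σ ψ φ φ' hc).app N) := by
  let f : (ModuleCat.restrictScalars.{u} φ).obj N ⟶ (ModuleCat.restrictScalars.{u} σ).obj
      ((ModuleCat.restrictScalars.{u} φ').obj ((ModuleCat.extendScalars.{u, u, u} ψ).obj N)) :=
    ((ModuleCat.restrictScalars.{u} φ).map ((ModuleCat.extendRestrictScalarsAdj.{u, u, u} ψ).unit.app N) ≫
      (ModuleCat.restrictScalarsComp'App.{u} φ ψ (ψ.comp φ) rfl _).inv ≫
        (ModuleCat.restrictScalarsComp'App.{u} σ φ' (ψ.comp φ) hc.symm _).hom)
  haveI : IsLocalizedModule S f.hom := by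
    haveI := isLocalizedModule_restrict φ hφ S _ (isLocalizedModule_unit ψ (S.map φ) hψ N)
    exact IsLocalizedModule.of_linearEquiv S
      ((ModuleCat.restrictScalars.{u} φ).map ((ModuleCat.extendRestrictScalarsAdj.{u, u, u} ψ).unit.app N)).hom
      ((ModuleCat.restrictScalarsComp'App.{u} φ ψ (ψ.comp φ) rfl _).symm ≪≫
        ModuleCat.restrictScalarsComp'App.{u} σ φ' (ψ.comp φ) hc.symm _).toLinearEquiv
  haveI := isLocalizedModule_unit σ S hσ ((ModuleCat.restrictScalars.{u} φ).obj N)
  let τ := (bcNat σ ψ φ φ' hc).app N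
  have hτ : (ModuleCat.extendRestrictScalarsAdj.{u, u, u} σ).unit.app _ ≫ (ModuleCat.restrictScalars.{u} σ).map τ = f :=
    (Adjunction.homEquiv_unit _ _ _ _).symm.trans (Equiv.apply_symm_apply _ _)
  let L := IsLocalizedModule.linearEquiv S
    ((ModuleCat.extendRestrictScalarsAdj.{u, u, u} σ).unit.app ((ModuleCat.restrictScalars.{u} φ).obj N)).hom f.hom
  have hL : ((ModuleCat.restrictScalars.{u} σ).map τ).hom = L.toLinearMap := by
    refine IsLocalizedModule.linearMap_ext S
      ((ModuleCat.extendRestrictScalarsAdj.{u, u, u} σ).unit.app ((ModuleCat.restrictScalars.{u} φ).obj N)).hom f.hom ?_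
    have h₁ := congrArg ModuleCat.Hom.hom hτ
    rw [ModuleCat.hom_comp] at h₁
    exact h₁.trans (LinearMap.ext fun x => (IsLocalizedModule.linearEquiv_apply S
      ((ModuleCat.extendRestrictScalarsAdj.{u, u, u} σ).unit.app ((ModuleCat.restrictScalars.{u} φ).obj N)).hom
      f.hom x).symm)
  refine (ConcreteCategory.isIso_iff_bijective τ).2 ?_
  have hb : Function.Bijective ((ModuleCat.restrictScalars.{u} σ).map τ).hom := by
    rw [hL]; exact L.bijective
  exact hb

/-- the two base changes agree on complexes -/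
theorem nonempty_bcIso (hφ : Function.Surjective φ) (S : Submonoid R) (hc : φ'.comp σ = ψ.comp φ)
    (hσ : letI := σ.toAlgebra; IsLocalization S R')
    (hψ : letI := ψ.toAlgebra; IsLocalization (S.map φ) B') (M : DRing.Cx B) :
    Nonempty ((Groth.L02.PC.bcCx σ).obj ((DRing.restrictCx φ).obj M) ≅
      (DRing.restrictCx φ').obj ((Groth.L02.PC.bcCx ψ).obj M)) := by
  haveI := fun N => isIso_bcNat_app σ ψ φ φ' hc hφ S hσ hψ N
  exact ⟨HomologicalComplex.Hom.isoOfComponents (fun i => asIso ((bcNat σ ψ φ φ' hc).app (M.X i)))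
    (fun i j _ => ((bcNat σ ψ φ φ' hc).naturality (M.d i j)).symm)⟩

/-- the unit of extension of scalars along a bijection, restricted -/
theorem nonempty_resExt {A : Type u} [CommRing A] (σ : R →+* R') (hσ : Function.Bijective σ) (f : A →+* R)
    (g : A →+* R') (hg : g = σ.comp f) (M : DRing.Cx R) :
    Nonempty ((DRing.restrictCx g).obj ((Groth.L02.PC.bcCx σ).obj M) ≅ (DRing.restrictCx f).obj M) := by
  have hb : ∀ N : ModuleCat.{u} R, IsIso ((ModuleCat.extendRestrictScalarsAdj.{u, u, u} σ).unit.app N) := fun N => by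
    refine (ConcreteCategory.isIso_iff_bijective _).2 ?_
    exact Groth.L04.KSix.bijective_tmul_one (RingEquiv.ofBijective σ hσ) N
  haveI := hb
  exact ⟨Groth.L10.LocalAmp.resComp f σ g hg _ ≪≫ (DRing.restrictCx f).mapIso
    (HomologicalComplex.Hom.isoOfComponents
      (fun i => (asIso ((ModuleCat.extendRestrictScalarsAdj.{u, u, u} σ).unit.app (M.X i))).symm)
      (fun i j _ => by
        have := (ModuleCat.extendRestrictScalarsAdj.{u, u, u} σ).unit.naturality (M.d i j)
        simp only [Iso.symm_hom, asIso_inv, IsIso.inv_comp_eq]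
        rw [← Category.assoc, IsIso.eq_comp_inv]
        exact this))⟩

end Alg

variable {X Y W : Scheme.{u}}

/-- amplitude at a point of an open subscheme -/
theorem ampAt_restrict_iff (f : X ⟶ Y) (j : W ⟶ X) [IsOpenImmersion j] (F : CochainComplex X.Modules ℤ) (a b : ℤ)
    (w : W) :
    DerSch.HasTorAmplitudeAt (j ≫ f) a b
        (((Scheme.Modules.restrictFunctor j).mapHomologicalComplex (ComplexShape.up ℤ)).obj F) w ↔
      DerSch.HasTorAmplitudeAt f a b F (j w) := by
  obtain ⟨u⟩ := nonempty_resExt (PullStalk.φ j w) (ConcreteCategory.bijective_of_isIso (j.stalkMap w))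
    (f.stalkMap (j w)).hom ((j ≫ f).stalkMap w).hom
    (congrArg CommRingCat.Hom.hom (Scheme.Hom.stalkMap_comp j f w)) ((Stk.S X (j w)).obj F)
  let e : (DerSch.stalkCxOver (j ≫ f) w).obj
      (((Scheme.Modules.restrictFunctor j).mapHomologicalComplex (ComplexShape.up ℤ)).obj F) ≅
      (DerSch.stalkCxOver f (j w)).obj F :=
    ((DRing.restrictCx ((j ≫ f).stalkMap w).hom).mapIso (Groth.L04.KSix.resStalkCx j w F) :) ≪≫ u
  exact ⟨Groth.L10.DR.amp_of_iso (DerivedCategory.Q.mapIso e),
    Groth.L10.DR.amp_of_iso (DerivedCategory.Q.mapIso e).symm⟩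

open Groth.L29.DC in
/-- amplitude at a point of an affine chart -/
theorem ampAt_chart_iff (f : X ⟶ Y) {U : X.Opens} (hU : IsAffineOpen U) {V : Y.Opens} (hV : IsAffineOpen V)
    (hle : U ≤ f ⁻¹ᵁ V) {R : Type u} [CommRing R] [Algebra Γ(Y, V) R] (φ : R →+* Γ(X, U))
    (hφ : Function.Surjective φ) (hφA : φ.comp (algebraMap Γ(Y, V) R) = (f.appLE V U hle).hom)
    [PreservesFiniteLimits (tilde.functor Γ(X, U))]
    (F : CochainComplex X.Modules ℤ) (M : DRing.Cx Γ(X, U))
    (e : (DCoh.tildeD Γ(X, U)).obj (DRing.toD M) ≅ (DCoh.restrictD hU.fromSpec).obj (DCoh.toD X F))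
    (a b : ℤ) (x' : Spec Γ(X, U)) (p : Ideal R) [p.IsPrime] (hp : p = x'.asIdeal.comap φ) :
    DerSch.HasTorAmplitudeAt f a b F (hU.fromSpec x') ↔
      DRing.HasTorAmplitudeIn Γ(Y, V) a b (DRing.toD
        ((DRing.restrictCx (algebraMap Γ(Y, V) (Localization.AtPrime p))).obj
          ((Groth.L02.PC.bcCx (algebraMap R (Localization.AtPrime p))).obj ((DRing.restrictCx φ).obj M)))) := by
  let α := f.appLE V U hle
  let g := Spec.map α ≫ hV.fromSpec
  have wg : hU.fromSpec ≫ f = g := (IsAffineOpen.SpecMap_appLE_fromSpec f hV hU hle).symm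
  let F' := ((Scheme.Modules.restrictFunctor hU.fromSpec).mapHomologicalComplex (ComplexShape.up ℤ)).obj F
  let Mt := (TildeAlg.tC (R := Γ(X, U))).obj M
  let e' : DCoh.toD _ Mt ≅ DCoh.toD _ F' :=
    (TildeAlg.qIso M).symm ≪≫ e ≪≫ (Scheme.Modules.restrictFunctor hU.fromSpec).mapDerivedCategoryFactors.app F
  have h1 : DerSch.HasTorAmplitudeAt f a b F (hU.fromSpec x') ↔ DerSch.HasTorAmplitudeAt g a b Mt x' := by
    refine (ampAt_restrict_iff f hU.fromSpec F a b x').symm.trans ?_
    rw [wg]
    exact ⟨Groth.L10.RelPC.MixedAmp.torAmpAt_congr g x' e'.symm, Groth.L10.RelPC.MixedAmp.torAmpAt_congr g x' e'⟩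
  rw [h1]
  have hy : g x' ∈ V := by
    have : g x' ∈ Set.range hV.fromSpec := ⟨(Spec.map α) x', rfl⟩
    rwa [hV.range_fromSpec] at this
  have hgt : (⊤ : (Spec Γ(X, U)).Opens) ≤ g ⁻¹ᵁ V := fun z _ => by
    have : g z ∈ Set.range hV.fromSpec := ⟨(Spec.map α) z, rfl⟩
    rwa [hV.range_fromSpec] at this
  have happ : g.appLE V ⊤ hgt = α ≫ (Scheme.ΓSpecIso Γ(X, U)).inv := by
    simp only [g, Scheme.Hom.comp_appLE, hV.fromSpec_app_self, Category.assoc, Scheme.Hom.map_appLE]
    rw [Scheme.ΓSpecIso_inv_naturality]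
    simp [Scheme.Hom.appLE]
  let ψ := KFlat.toStalk Γ(X, U) x'
  let O' := (Spec Γ(X, U)).presheaf.stalk x'
  letI := Y.presheaf.algebra_section_stalk ⟨g x', hy⟩
  haveI := hV.isLocalization_stalk ⟨g x', hy⟩
  letI : Algebra Γ(Y, V) O' := (ψ.comp α.hom).toAlgebra
  letI : Algebra (Y.presheaf.stalk (g x')) O' := (g.stalkMap x').hom.toAlgebra
  haveI : IsScalarTower Γ(Y, V) (Y.presheaf.stalk (g x')) O' := IsScalarTower.of_algebraMap_eq fun r => by
    refine (?_ : (ψ.comp α.hom) r = _)
    refine Eq.trans ?_ (Groth.L20.ModStalk.stalkMap_germ (f := g) hgt (show x' ∈ (⊤ : (Spec Γ(X, U)).Opens) from trivial) hy r).symm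
    rw [happ]
    rfl
  let S := (Stk.S (Spec Γ(X, U)) x').obj Mt
  let eS : S ≅ (Groth.L02.PC.bcCx ψ).obj M :=
    HomologicalComplex.Hom.isoOfComponents (fun j => (KFlat.tildeStalkIso Γ(X, U) x').app (M.X j))
      (fun j k _ => ((KFlat.tildeStalkIso Γ(X, U) x').hom.naturality (M.d j k)).symm)
  have h2 : DerSch.HasTorAmplitudeAt g a b Mt x' ↔ DRing.HasTorAmplitudeIn Γ(Y, V) a b
      (DRing.toD ((DRing.restrictCx (algebraMap Γ(Y, V) O')).obj ((Groth.L02.PC.bcCx ψ).obj M))) :=
    (Groth.L10.RelPC.TorFlatBC.amp_localization_iff (B := Y.presheaf.stalk (g x'))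
      (hV.primeIdealOf ⟨g x', hy⟩).asIdeal.primeCompl S a b).symm.trans
      ⟨Groth.L10.DR.amp_of_iso (DerivedCategory.Q.mapIso ((DRing.restrictCx _).mapIso eS)),
        Groth.L10.DR.amp_of_iso (DerivedCategory.Q.mapIso ((DRing.restrictCx _).mapIso eS)).symm⟩
  rw [h2]
  have hmap : p.primeCompl.map φ = x'.asIdeal.primeCompl := by
    subst hp
    exact Submonoid.map_comap_eq_of_surjective (f := φ) hφ x'.asIdeal.primeCompl
  have hψl : letI := ψ.toAlgebra; IsLocalization (p.primeCompl.map φ) O' := by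
    rw [hmap]; exact TorTest.isLocalization_toStalk x'
  have hu : ∀ s : p.primeCompl, IsUnit ((ψ.comp φ) s) := fun s => by
    letI := ψ.toAlgebra
    haveI := hψl
    exact IsLocalization.map_units O' (⟨φ s, s, s.2, rfl⟩ : p.primeCompl.map φ)
  let φ' : Localization.AtPrime p →+* O' := IsLocalization.lift hu
  have hc : φ'.comp (algebraMap R (Localization.AtPrime p)) = ψ.comp φ := IsLocalization.lift_comp hu
  obtain ⟨t⟩ := nonempty_bcIso (algebraMap R (Localization.AtPrime p)) ψ φ φ' hφ p.primeCompl hc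
    (by
      have h : (algebraMap R (Localization.AtPrime p)).toAlgebra = (inferInstance : Algebra R (Localization.AtPrime p)) :=
        Algebra.algebra_ext _ _ fun r => rfl
      rw [h]
      exact Localization.isLocalization) hψl M
  let e₃ : (DRing.restrictCx (algebraMap Γ(Y, V) (Localization.AtPrime p))).obj
        ((Groth.L02.PC.bcCx (algebraMap R (Localization.AtPrime p))).obj ((DRing.restrictCx φ).obj M)) ≅
      (DRing.restrictCx (algebraMap Γ(Y, V) O')).obj ((Groth.L02.PC.bcCx ψ).obj M) :=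
    (DRing.restrictCx _).mapIso t ≪≫ (Groth.L10.LocalAmp.resComp _ φ' (algebraMap Γ(Y, V) O') (by
      rw [IsScalarTower.algebraMap_eq Γ(Y, V) R (Localization.AtPrime p), ← RingHom.comp_assoc, hc,
        RingHom.comp_assoc, hφA]
      rfl) _).symm
  exact ⟨Groth.L10.DR.amp_of_iso (DerivedCategory.Q.mapIso e₃.symm),
    Groth.L10.DR.amp_of_iso (DerivedCategory.Q.mapIso e₃)⟩

end Groth.Lead.PerfAmp
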