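import Groth.Agent.Lead.PerfAmp.Ring
import Groth.Agent.Lead.PerfAmp.Stalk
import Groth.Agent.L29.RelPC.Bridge
import Groth.Agent.L29.RelPC.Open
import Groth.Agent.L29.DCoh.PCQCoh
import Groth.Agent.L29.DCoh.ModRes
import Groth.Agent.L17.ClosedPush
import Groth.Agent.L29.DCoh.QCohOps
import Groth.Agent.L16.AffineBC.Pullback

/-!
Relative perfect amplitude spreads out from a point.
-/

set_option autoImplicit false
set_option linter.style.haveILetI false
set_option backward.isDefEq.respectTransparency false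
set_option backward.isDefEq.respectTransparency.types false
set_option backward.defeqAttrib.useBackward true

universe u

open CategoryTheory CategoryTheory.Limits AlgebraicGeometry

attribute [local instance] HasDerivedCategory.standard

namespace Groth.Lead.PerfAmp

open Groth.L00 Groth.L29.DC Groth.L29.RelPC Groth.L29.DC.ClosedPC

attribute [local instance] ClosedPC.additive ClosedPC.exactLeft ClosedPC.exactRight

variable {X Y : Scheme.{u}}

/-- restriction of a tilde complex to an open affine piece -/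
theorem nonempty_restrict_tilde {R S : CommRingCat.{u}} (φ : R ⟶ S) [IsOpenImmersion (Spec.map φ)]
    (hφ : φ.hom.Flat) [PreservesFiniteLimits (tilde.functor R)] [PreservesFiniteLimits (tilde.functor S)]
    (K : DRing.Cx R) :
    Nonempty ((DCoh.restrictD (Spec.map φ)).obj ((DCoh.tildeD R).obj (DRing.toD K)) ≅
      (DCoh.tildeD S).obj (DRing.toD ((Groth.L02.PC.bcCx φ.hom).obj K))) := by
  let Rj := Scheme.Modules.restrictFunctor (Spec.map φ)
  exact ⟨(DCoh.restrictD (Spec.map φ)).mapIso (TildeAlg.qIso K) ≪≫ Rj.mapDerivedCategoryFactors.app _ ≪≫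
    DerivedCategory.Q.mapIso ((NatIso.mapHomologicalComplex
      (Scheme.Modules.restrictFunctorIsoPullback (Spec.map φ)) (ComplexShape.up ℤ)).app _ ≪≫
      (ModRes.pullTildeCx φ).app K) ≪≫
    (TildeAlg.qIso ((Groth.L02.PC.bcCx φ.hom).obj K)).symm⟩

theorem isZero_homology_of_amp {A : Type u} [CommRing A] {P : DRing.Cx A} {a b : ℤ}
    (h : DRing.HasTorAmplitudeIn A a b (DRing.toD P)) (i : ℤ) (hi : i < a ∨ b < i) : IsZero (P.homology i) := by
  obtain ⟨E, hE, -, ⟨e⟩⟩ := h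
  exact (Groth.L02.PC.isZero_HH_Q_iff P i).1 ((Groth.L10.DR.HH_iso_zero e i).2
    ((E.exactAt_iff_isZero_homology i).1 (HomologicalComplex.ExactAt.of_isZero (hE i hi))))

/-- stalkwise amplitude bounds cohomology -/
theorem isZero_HD_of_amp (f : X ⟶ Y) {a b : ℤ} {F : CochainComplex X.Modules ℤ}
    (hF : DerSch.HasTorAmplitude f a b F) (i : ℤ) (hi : i < a ∨ b < i) : IsZero (DCoh.HD (DCoh.toD X F) i) := by
  refine IsZero.of_iso ?_ ((DerivedCategory.homologyFunctorFactors X.Modules i).app F)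
  refine (Stk.acyclic_iff F i).2 fun x => ?_
  exact (KFlatAlg.acyclic_restrictScalars (f.stalkMap x).hom ((Stk.S X x).obj F) i).1
    (isZero_homology_of_amp (hF x) i hi)

set_option maxHeartbeats 1000000 in
/-- relative perfect amplitude near a point -/
theorem exists_nhd (f : X ⟶ Y) [LocallyOfFiniteType f] (F : CochainComplex X.Modules ℤ) (a b : ℤ) (x : X)
    (U₀ : X.Opens) (hx₀ : x ∈ U₀)
    (hpc : DerSch.IsPseudoCoherentRel (U₀.ι ≫ f) (a - 1) (DCoh.toD (U₀ : Scheme.{u}) ((DCoh.restrictCx U₀).obj F)))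
    (hz : ∀ i : ℤ, i < a ∨ b < i → IsZero (DCoh.HD (DCoh.toD (U₀ : Scheme.{u}) ((DCoh.restrictCx U₀).obj F)) i))
    (hamp : DerSch.HasTorAmplitudeAt f a b F x) :
    ∃ U : X.Opens, x ∈ U ∧ DerSch.HasPerfAmplitudeRel (U.ι ≫ f) a b ((DCoh.restrictCx U).obj F) := by
  let K := DCoh.toD X F
  let e₀ : (DCoh.restrictD U₀.ι).obj K ≅ DCoh.toD _ ((DCoh.restrictCx U₀).obj F) :=
    (Scheme.Modules.restrictFunctor U₀.ι).mapDerivedCategoryFactors.app F
  obtain ⟨_, ⟨V, hV, rfl⟩, hyV, -⟩ :=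
    Y.isBasis_affineOpens.exists_subset_of_mem_open (Set.mem_univ (f x)) isOpen_univ
  obtain ⟨U, hU, hxU, hle₀⟩ : ∃ U : X.Opens, IsAffineOpen U ∧ x ∈ U ∧ U ≤ f ⁻¹ᵁ V ⊓ U₀ := by
    obtain ⟨_, ⟨U, hU, rfl⟩, hxU, hle₀⟩ := X.isBasis_affineOpens.exists_subset_of_mem_open
      (show x ∈ f ⁻¹ᵁ V ⊓ U₀ from ⟨hyV, hx₀⟩) (f ⁻¹ᵁ V ⊓ U₀).isOpen
    exact ⟨U, hU, hxU, hle₀⟩
  have hle : U ≤ f ⁻¹ᵁ V := hle₀.trans inf_le_left
  have hUU : U ≤ U₀ := hle₀.trans inf_le_right
  -- good chart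
  have hU' : IsAffineOpen (U₀.ι ⁻¹ᵁ U) :=
    hU.preimage_of_isOpenImmersion U₀.ι (by rw [Scheme.Opens.opensRange_ι]; exact hUU)
  have him : U₀.ι ''ᵁ (U₀.ι ⁻¹ᵁ U) = U := by
    rw [Scheme.Hom.image_preimage_eq_opensRange_inf, Scheme.Opens.opensRange_ι, inf_eq_right]
    exact hUU
  have hG : Good f (a - 1) K U V := by
    have h' : U₀.ι ''ᵁ (U₀.ι ⁻¹ᵁ U) ≤ f ⁻¹ᵁ V := by rw [him]; exact hle
    have := (good_comp_iff U₀.ι f hU' hV h' (a - 1) K).2
      (good_of_rel (rel_iso e₀.symm hpc) hU' hV (fun z hz => hle hz))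
    rwa [him] at this
  obtain ⟨n, φ, hφ⟩ := exists_isChart f hU hV hle
  let R : Type u := MvPolynomial (Fin n) Γ(Y, V)
  haveI := isClosedImmersion_toSpecΓ hU
  haveI := isClosedImmersion_chartI hU hφ.1
  haveI := Groth.L18.TildeF.tilde_preservesFiniteLimits (R := Γ(X, U))
  haveI := Groth.L18.TildeF.tilde_preservesFiniteLimits (R := CommRingCat.of R)
  obtain ⟨_, hPP⟩ := hG hle n φ hφ
  -- vanishing
  have hzero : ∀ {W : Scheme.{u}} (j : W ⟶ X) [IsOpenImmersion j], j.opensRange ≤ U₀ → ∀ i : ℤ, i < a ∨ b < i →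
      IsZero (DCoh.HD ((DCoh.restrictD j).obj K) i) := by
    intro W j _ hj i hi
    let l := IsOpenImmersion.lift U₀.ι j (show j.opensRange ≤ U₀.ι.opensRange by rw [Scheme.Opens.opensRange_ι]; exact hj)
    have h0 : IsZero ((Scheme.Modules.restrictFunctor U₀.ι).obj (DCoh.HD K i)) :=
      (hz i hi).of_iso ((HDResIso U₀.ι K i).symm ≪≫ (DerivedCategory.homologyFunctor _ i).mapIso e₀)
    exact ((Scheme.Modules.restrictFunctor l).map_isZero h0).of_iso (HDResIso j K i ≪≫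
      (((Scheme.Modules.restrictFunctorComp l U₀.ι).symm ≪≫
        Scheme.Modules.restrictFunctorCongr (IsOpenImmersion.lift_fac U₀.ι j _)).app _).symm)
  -- the complex of modules
  have hq : DCoh.IsQCohD ((resD U).obj K) := by
    intro i
    by_cases hi : a - 1 < i
    · obtain ⟨w⟩ := nonempty_HD_iso (chartI U φ) ((resD U).obj K) i
      haveI : (DCoh.HD ((pD (chartI U φ)).obj ((resD U).obj K)) i).IsQuasicoherent :=
        PCQCoh.isQCoh_HD hi hPP
      haveI : Coh.IsQCoh ((Scheme.Modules.pushforward (chartI U φ)).obj (DCoh.HD ((resD U).obj K) i)) :=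
        isQCoh_of_iso' w inferInstance
      haveI := Groth.L17.ClosedPush.isIso_counit (chartI U φ)
      exact isQCoh_of_iso' (asIso ((Scheme.Modules.pullbackPushforwardAdjunction (chartI U φ)).counit.app
        (DCoh.HD ((resD U).obj K) i))) (Groth.L16.AffineBC.isQCoh_pullback (chartI U φ) _)
    · exact Groth.L29.DC.isQCoh_of_isZero (hzero U.ι (by rw [Scheme.Opens.opensRange_ι]; exact hUU) i (Or.inl (by omega)))
  obtain ⟨M₀, ⟨e₁⟩⟩ : ∃ M : Dual.D Γ(X, U),
      Nonempty ((DCoh.tildeD Γ(X, U)).obj M ≅ (pD U.toSpecΓ).obj ((resD U).obj K)) := by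
    refine (TildeD.isQCohD_iff _).1 fun i => ?_
    obtain ⟨w⟩ := nonempty_HD_iso U.toSpecΓ ((resD U).obj K) i
    haveI : Coh.IsQCoh (DCoh.HD ((resD U).obj K) i) := hq i
    exact isQCoh_of_iso' w.symm (Groth.L16.QcqsPush.isQCoh_push _ U.toSpecΓ)
  let M := DerivedCategory.Q.objPreimage M₀
  let e : (DCoh.tildeD Γ(X, U)).obj (DRing.toD M) ≅ (pD U.toSpecΓ).obj ((resD U).obj K) :=
    (DCoh.tildeD Γ(X, U)).mapIso (DerivedCategory.Q.objObjPreimageIso M₀) ≪≫ e₁
  obtain ⟨eF⟩ := nonempty_fromSpec hU K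
  -- the complex over the chart
  let MR : DRing.Cx R := (DRing.restrictCx φ).obj M
  have hMR : ∀ i : ℤ, i < a ∨ b < i → IsZero (MR.homology i) := fun i hi => by
    refine (KFlatAlg.acyclic_restrictScalars φ M i).2 (TildeAlg.isZero_of_isZero_tilde ?_)
    exact (hzero hU.fromSpec (by rw [hU.opensRange_fromSpec]; exact hUU) i hi).of_iso
      (((tilde.functor Γ(X, U)).mapIso ((DerivedCategory.homologyFunctorFactors _ i).app M).symm :) ≪≫
        (TildeAlg.hdIso (DRing.toD M) i).symm ≪≫ (DerivedCategory.homologyFunctor _ i).mapIso (e ≪≫ eF))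
  have hMpc : DRing.IsPseudoCoherent R (a - 1) (DRing.toD MR) :=
    Groth.L02.PC.pc_of_iso (Groth.L10.RelPC.resQ φ M) ((CP.iff_pc hU hφ.1 e).1 ⟨inferInstance, hPP⟩)
  have hφA : φ.comp (algebraMap Γ(Y, V) R) = (f.appLE V U hle).hom := hφ.2
  have hiff : ∀ (y' : Spec Γ(X, U)), DerSch.HasTorAmplitudeAt f a b F (hU.fromSpec y') ↔
      DRing.HasTorAmplitudeIn Γ(Y, V) a b (DRing.toD ((rs (Localization.AtPrime (y'.asIdeal.comap φ))).obj
        ((bc (Localization.AtPrime (y'.asIdeal.comap φ))).obj MR))) := fun y' =>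
    ampAt_chart_iff f hU hV hle φ hφ.1 hφA F M (e ≪≫ eF) a b y' _ rfl
  let x' := hU.primeIdealOf ⟨x, hxU⟩
  obtain ⟨g, hg, hgpc, hgamp⟩ := exists_away (A := Γ(Y, V)) MR hMpc (fun i hi => hMR i (Or.inl hi))
    (fun i hi => hMR i (Or.inr hi)) (x'.asIdeal.comap φ)
    ((hiff x').1 (by rw [hU.fromSpec_primeIdealOf ⟨x, hxU⟩]; exact hamp))
  let U₁ := X.basicOpen (φ g)
  have hmem : ∀ (y : X) (hy : y ∈ U), y ∈ U₁ ↔ φ g ∉ (hU.primeIdealOf ⟨y, hy⟩).asIdeal := fun y hy => by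
    have h1 : hU.fromSpec (hU.primeIdealOf ⟨y, hy⟩) = y := hU.fromSpec_primeIdealOf ⟨y, hy⟩
    constructor
    · intro h
      have h2 : hU.primeIdealOf ⟨y, hy⟩ ∈ hU.fromSpec ⁻¹ᵁ X.basicOpen (φ g) := by
        change hU.fromSpec (hU.primeIdealOf ⟨y, hy⟩) ∈ X.basicOpen (φ g); rw [h1]; exact h
      rwa [hU.fromSpec_preimage_basicOpen] at h2
    · intro h
      have h2 : hU.primeIdealOf ⟨y, hy⟩ ∈ hU.fromSpec ⁻¹ᵁ X.basicOpen (φ g) := by
        rw [hU.fromSpec_preimage_basicOpen]; exact h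
      exact h1 ▸ h2
  have hU₁ : U₁ ≤ U := X.basicOpen_le _
  refine ⟨U₁, (hmem x hxU).2 hg, fun m => ?_, fun z => ?_⟩
  · refine rel_iso ((Scheme.Modules.restrictFunctor U₁.ι).mapDerivedCategoryFactors.app F) ?_
    -- chart on the basic open
    obtain ⟨h', hs, hc⟩ := exists_loc hU φ hφ.1 g
    haveI := IsOpenImmersion.of_isLocalization (S := Localization.Away g) g
    haveI := isClosedImmersion_chartI (hU.basicOpen (φ g)) hs
    haveI := Groth.L18.TildeF.tilde_preservesFiniteLimits (R := CommRingCat.of (Localization.Away g))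
    haveI : IsClosedImmersion (Spec.map (CommRingCat.ofHom φ)) := IsClosedImmersion.spec_of_surjective _ hφ.1
    obtain ⟨c⟩ := nonempty_comp U.toSpecΓ (Spec.map (CommRingCat.ofHom φ))
    obtain ⟨T⟩ := nonempty_tildeD_pD (CommRingCat.ofHom φ)
    obtain ⟨sq⟩ := nonempty_square (chartI U φ) (X.homOfLE (X.basicOpen_le (φ g)))
      (Spec.map (CommRingCat.ofHom (algebraMap R (Localization.Away g)))) (chartI _ h') (loc_hr φ g)
      (loc_w φ g h' hc)
    obtain ⟨t⟩ := nonempty_restrict_tilde (CommRingCat.ofHom (algebraMap R (Localization.Away g)))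
      (RingHom.flat_algebraMap_iff.2 (IsLocalization.flat _ (Submonoid.powers g))) MR
    let t₀ : (pD (chartI U φ)).obj ((resD U).obj K) ≅
        (DCoh.tildeD (CommRingCat.of R)).obj (DRing.toD MR) :=
      c.app _ ≪≫ (pD (Spec.map (CommRingCat.ofHom φ))).mapIso e.symm ≪≫ T.app _ ≪≫
        (DCoh.tildeD (CommRingCat.of R)).mapIso (Groth.L10.RelPC.resQ φ M)
    let q : (pD (chartI U₁ h')).obj ((resD U₁).obj K) ≅
        (DCoh.tildeD (CommRingCat.of (Localization.Away g))).obj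
          (DRing.toD ((Groth.L02.PC.bcCx (algebraMap R (Localization.Away g))).obj MR)) :=
      (pD (chartI U₁ h')).mapIso ((Gen.resLE (X.basicOpen_le (φ g))).app K).symm ≪≫ (sq.app _).symm ≪≫
        (DCoh.restrictD _).mapIso t₀ ≪≫ t
    have hCP : CP U₁ h' m K :=
      ⟨inferInstance, isPseudoCoherentD_of_iso q.symm
        (TildeAlg.pc_tilde (R := CommRingCat.of (Localization.Away g)) (hgpc m))⟩
    obtain ⟨τ, hτs, hτ, hτC⟩ := exists_tau g
    let eP := (MvPolynomial.finSuccEquiv Γ(Y, V) n).toRingEquiv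
    let σ : MvPolynomial (Fin (n + 1)) Γ(Y, V) →+* Localization.Away g := τ.comp (eP : _ →+* _)
    have hσs : Function.Surjective σ := hτs.comp eP.surjective
    have hσ : Groth.L10.RelPC.PCHom σ := (Groth.L10.RelPC.PCHom.ringEquiv eP).comp hτ
    have hU₁V : U₁ ≤ f ⁻¹ᵁ V := hU₁.trans hle
    have hchart : DerSch.IsChart f U₁ V hU₁V (h'.comp σ) := by
      refine ⟨hs.comp hσs, RingHom.ext fun r => ?_⟩
      change h' (τ (MvPolynomial.finSuccEquiv Γ(Y, V) n (MvPolynomial.C r))) = (f.appLE V U₁ hU₁V).hom r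
      have h1 : MvPolynomial.finSuccEquiv Γ(Y, V) n (MvPolynomial.C r) = Polynomial.C (MvPolynomial.C r) :=
        (MvPolynomial.finSuccEquiv Γ(Y, V) n).commutes r
      rw [h1, show τ (Polynomial.C (MvPolynomial.C r)) = algebraMap R _ (MvPolynomial.C r) from
        RingHom.congr_fun hτC _]
      refine (RingHom.congr_fun hc (MvPolynomial.C r)).trans ?_
      rw [← Scheme.Hom.appLE_map (f := f) hle (homOfLE (X.basicOpen_le (φ g))).op]
      exact congrArg _ (RingHom.congr_fun hφ.2 r)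
    have hGood : Good f m K U₁ V :=
      good_of_chart f (hU.basicOpen (φ g)) hchart
        ((CP.comp_iff (hU.basicOpen (φ g)) h' hs σ hσs hσ rfl m K).2 hCP)
    haveI : IsAffine (U₁ : Scheme.{u}) := hU.basicOpen (φ g)
    refine rel_of_local fun z => ⟨⊤, V, trivial, isAffineOpen_top _, hV, fun y _ => hU₁V y.2, ?_⟩
    refine (good_comp_iff U₁.ι f (isAffineOpen_top _) hV (by rw [Scheme.Opens.ι_image_top]; exact hU₁V) m K).1 ?_
    rwa [Scheme.Opens.ι_image_top]
  · refine (ampAt_restrict_iff f U₁.ι F a b z).2 ?_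
    have h1 := (hiff (hU.primeIdealOf ⟨z.1, hU₁ z.2⟩)).2 (hgamp _ ((hmem z.1 (hU₁ z.2)).1 z.2))
    rw [hU.fromSpec_primeIdealOf] at h1
    exact h1

end Groth.Lead.PerfAmp
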