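import Groth.Agent.L10.RelPC.RelPerfModel
import Groth.Agent.L10.DRing.FlatDescent
import Groth.Agent.L29.DCoh.PerfDescent
import Groth.Agent.L04.KSix.FlatCoker
import Groth.Agent.L20.FlatLocusOpen
import Groth.Agent.L20.TorAmpWeaklyEtale

/-!
Spreading relative perfection from a prime: a pseudo-coherent complex over a flat algebra of finite presentation
whose localisation at a prime has tor amplitude over the base is relatively perfect near that prime.
-/

set_option autoImplicit false
set_option linter.style.haveILetI false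
set_option backward.isDefEq.respectTransparency false
set_option backward.isDefEq.respectTransparency.types false
set_option backward.defeqAttrib.useBackward true

universe u

open CategoryTheory CategoryTheory.Limits TensorProduct

attribute [local instance] HasDerivedCategory.standard

namespace Groth.Lead.PerfAmp

open Groth.L02.PC Groth.L10.DR

section

variable {A R : Type u} [CommRing A] [CommRing R] [Algebra A R]
variable (S : Type u) [CommRing S] [Algebra R S]

/-- extension of scalars on complexes -/
noncomputable abbrev bc : DRing.Cx R ⥤ DRing.Cx S := Groth.L02.PC.bcCx (algebraMap R S)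

variable [Algebra A S]

/-- restriction to the base -/
noncomputable abbrev rs : DRing.Cx S ⥤ DRing.Cx A := DRing.restrictCx (algebraMap A S)

theorem flat_rs_bc [IsScalarTower A R S] [Module.Flat A R] [Module.Flat R S] {P : DRing.Cx R}
    (hP : DRing.TermwiseFlat P) : DRing.TermwiseFlat ((rs (A := A) S).obj ((bc S).obj P)) := fun i => by
  haveI : Module.Flat A S := Module.Flat.trans A R S
  haveI := hP i
  obtain ⟨t⟩ := Groth.L02.PC.extendScalars_equiv (S := S) (P.X i)
  haveI : Module.Flat S ((ModuleCat.extendScalars.{u, u, u} (algebraMap R S)).obj (P.X i)) :=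
    Module.Flat.of_linearEquiv t
  exact Groth.L20.TorAmp.flat_restrict (A := A) ((ModuleCat.extendScalars.{u, u, u} (algebraMap R S)).obj (P.X i))

omit [Algebra A R] in
theorem vanishesAbove_rs_bc {P : DRing.Cx R} {b : ℤ} (hP : DRing.VanishesAbove P b) :
    DRing.VanishesAbove ((rs (A := A) S).obj ((bc S).obj P)) b := fun i hi =>
  (ModuleCat.restrictScalars.{u} (algebraMap A S)).map_isZero
    ((ModuleCat.extendScalars.{u, u, u} (algebraMap R S)).map_isZero (hP i hi))

theorem isApprox_bc [Module.Flat R S] {P Q : DRing.Cx R} (β : P ⟶ Q) {m : ℤ}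
    (h : IsApprox (DerivedCategory.Q.map β) m) : IsApprox (DerivedCategory.Q.map ((bc S).map β)) m := by
  refine (isApprox_Q_map_iff _ m).2 fun i hi => ?_
  exact ((ModuleCat.extendScalars.{u, u, u} (algebraMap R S)).map_isZero ((isApprox_Q_map_iff β m).1 h i hi)).of_iso
    (((HomologicalComplex.homologyFunctor _ _ i).mapIso
      (CochainComplex.mappingCone.mapHomologicalComplexIso β (ModuleCat.extendScalars.{u, u, u} (algebraMap R S)))).symm ≪≫
      Groth.L10.FlatDescent.homologyIso (algebraMap R S) (RingHom.flat_algebraMap_iff.2 ‹_›)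
        (CochainComplex.mappingCone β) i)

theorem isApprox_rs {P Q : DRing.Cx S} (β : P ⟶ Q) {m : ℤ} (h : IsApprox (DerivedCategory.Q.map β) m) :
    IsApprox (DerivedCategory.Q.map ((rs (A := A) S).map β)) m := by
  refine (isApprox_Q_map_iff _ m).2 fun i hi => ?_
  exact ((ModuleCat.restrictScalars.{u} (algebraMap A S)).map_isZero ((isApprox_Q_map_iff β m).1 h i hi)).of_iso
    (((HomologicalComplex.homologyFunctor _ _ i).mapIso
      (CochainComplex.mappingCone.mapHomologicalComplexIso β (ModuleCat.restrictScalars.{u} (algebraMap A S)))).symm ≪≫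
      ((CochainComplex.mappingCone β).sc i).mapHomologyIso (ModuleCat.restrictScalars.{u} (algebraMap A S)))

/-- the cokernel of the differential after base change and restriction -/
theorem nonempty_coker [IsScalarTower A R S] (E : DRing.Cx R) (i j : ℤ) :
    Nonempty ((cokernel (((rs (A := A) S).obj ((bc S).obj E)).d i j) : ModuleCat.{u} A) ≃ₗ[A]
      (S ⊗[R] (E.X j ⧸ LinearMap.range (E.d i j).hom))) := by
  let e₁ := (PreservesCokernel.iso (ModuleCat.restrictScalars.{u} (algebraMap A S))
    (((bc S).obj E).d i j)).symm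
  haveI : (ModuleCat.extendScalars.{u, u, u} (algebraMap R S)).IsLeftAdjoint :=
    (ModuleCat.extendRestrictScalarsAdj.{u, u, u} (algebraMap R S)).isLeftAdjoint
  let e₂ := (PreservesCokernel.iso (ModuleCat.extendScalars.{u, u, u} (algebraMap R S)) (E.d i j)).symm ≪≫
    (ModuleCat.extendScalars.{u, u, u} (algebraMap R S)).mapIso (ModuleCat.cokernelIsoRangeQuotient (E.d i j))
  obtain ⟨t⟩ := Groth.L02.PC.extendScalars_equiv (S := S) (ModuleCat.of R (E.X j ⧸ LinearMap.range (E.d i j).hom))
  exact ⟨(e₁ ≪≫ (ModuleCat.restrictScalars.{u} (algebraMap A S)).mapIso e₂).toLinearEquiv.trans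
    { t.toAddEquiv with
      map_smul' := fun a x => by
        change t (algebraMap A S a • (show ((ModuleCat.extendScalars.{u, u, u} (algebraMap R S)).obj
          (ModuleCat.of R (E.X j ⧸ LinearMap.range (E.d i j).hom))) from x)) = a • t x
        rw [map_smul, algebraMap_smul] }⟩

end

variable {A R : Type u} [CommRing A] [CommRing R] [Algebra A R] [Module.Flat A R]

/-- a finite free approximation of a complex, compared with a free resolution -/
structure Model (a b : ℤ) (K : DRing.Cx R) where
  G : DRing.Cx R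
  hGb : DRing.VanishesAbove G b
  hGf : DRing.TermwiseFlat G
  eG : DRing.toD G ≅ DRing.toD K
  hK : ∀ i, i < a → IsZero (K.homology i)
  E : DRing.Cx R
  bE : ℤ
  hEv : DRing.VanishesOutside E (a - 1) bE
  hEf : DRing.TermwiseFiniteFree E
  β : E ⟶ G
  hβ : IsApprox (DerivedCategory.Q.map β) (a - 1)

omit [Algebra A R] [Module.Flat A R] in
theorem exists_model {a b : ℤ} (K : DRing.Cx R) (hpc : DRing.IsPseudoCoherent R (a - 1) (DRing.toD K))
    (hlo : ∀ i, i < a → IsZero (K.homology i)) (hhi : ∀ i, b < i → IsZero (K.homology i)) :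
    Nonempty (Model a b K) := by
  obtain ⟨G, hGb, hGf, -, ⟨eG⟩⟩ := exists_free_rep (K := DRing.toD K) (n := b)
    fun i hi => (isZero_HH_Q_iff K i).2 (hhi i hi)
  obtain ⟨E, bE, α, hEv, hEf, hα⟩ := exists_witness_ge hpc
  haveI := isKProjective_bounded hEv hEf
  obtain ⟨β, hβ⟩ := exists_chainMap (α ≫ eG.inv)
  exact ⟨⟨G, hGb, flat_of_free hGf, eG, hlo, E, bE, hEv, hEf, β, hβ ▸ hα.comp (IsApprox.of_isIso _ _)⟩⟩

namespace Model

variable {a b : ℤ} {K : DRing.Cx R} (D : Model a b K)

/-- the finitely presented module -/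
abbrev C : Type u := D.E.X a ⧸ LinearMap.range (D.E.d (a - 1) a).hom

omit [Algebra A R] [Module.Flat A R] in
theorem finitePresentation : Module.FinitePresentation R D.C := by
  haveI := (D.hEf a).1; haveI := (D.hEf a).2; haveI := (D.hEf (a - 1)).1
  haveI : Module.FinitePresentation R (D.E.X a) := Module.finitePresentation_of_projective R (D.E.X a)
  exact Module.finitePresentation_of_surjective (LinearMap.range (D.E.d (a - 1) a).hom).mkQ
    (Submodule.mkQ_surjective _) (by rw [Submodule.ker_mkQ, LinearMap.range_eq_map]; exact Module.Finite.fg_top.map _)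

variable (S : Type u) [CommRing S] [Algebra R S] [Algebra A S] [IsScalarTower A R S] [Module.Flat R S]

/-- amplitude after a flat base change, over the base -/
theorem amp_iff_flat :
    DRing.HasTorAmplitudeIn A a b (DRing.toD ((rs S).obj ((bc S).obj K))) ↔ Module.Flat A (S ⊗[R] D.C) := by
  have hEfl : DRing.TermwiseFlat D.E := fun i => by
    have := (D.hEf i).2
    infer_instance
  let G' := (rs (A := A) S).obj ((bc S).obj D.G)
  obtain ⟨u⟩ := Groth.L10.FlatDescent.nonempty_iso_of_iso (algebraMap R S) (RingHom.flat_algebraMap_iff.2 ‹_›) D.eG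
  let Rf := ModuleCat.restrictScalars.{u} (algebraMap A S)
  let e' : DRing.toD G' ≅ DRing.toD ((rs (A := A) S).obj ((bc S).obj K)) :=
    (Rf.mapDerivedCategoryFactors.app _).symm ≪≫ Rf.mapDerivedCategory.mapIso u ≪≫ Rf.mapDerivedCategoryFactors.app _
  have hb := vanishesAbove_rs_bc (A := A) S D.hGb
  have hf := flat_rs_bc (A := A) S D.hGf
  have hEb : DRing.VanishesAbove D.E D.bE := fun i hi => D.hEv i (Or.inr hi)
  have hco : Module.Flat A (cokernel (G'.d (a - 1) a) : ModuleCat.{u} A) ↔ Module.Flat A (S ⊗[R] D.C) := by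
    rw [← Groth.L04.KSix.flat_coker_congr ((rs (A := A) S).map ((bc S).map D.β)) (flat_rs_bc S hEfl)
      (vanishesAbove_rs_bc S hEb) hf hb (isApprox_rs S _ (isApprox_bc S D.β D.hβ)) a (by omega)]
    obtain ⟨t⟩ := nonempty_coker (A := A) S D.E (a - 1) a
    exact ⟨fun h => haveI := h; Module.Flat.of_linearEquiv t.symm,
      fun h => haveI := h; Module.Flat.of_linearEquiv t⟩
  refine ⟨fun h => hco.1 (Groth.L29.DC.PerfDesc.goodAlg_of_amp hf hb e' h).2, fun h => ?_⟩
  refine Groth.L29.DC.TildeAlg.amp_of_flat_cokernel G' hb hf e' (fun i hi => (isZero_HH_Q_iff _ i).2 ?_) (hco.2 h)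
  exact (Rf.map_isZero (((ModuleCat.extendScalars.{u, u, u} (algebraMap R S)).map_isZero (D.hK i hi)).of_iso
    (Groth.L10.FlatDescent.homologyIso (algebraMap R S) (RingHom.flat_algebraMap_iff.2 ‹_›) K i))).of_iso
      ((((bc S).obj K).sc i).mapHomologyIso Rf)

variable [Algebra.FinitePresentation A S]

/-- flatness of the module makes the base change pseudo-coherent -/
theorem pc_of_flat (hS : Module.Flat A (S ⊗[R] D.C)) (m : ℤ) :
    DRing.IsPseudoCoherent S m (DRing.toD ((bc S).obj K)) := by
  haveI : Module.Flat A S := Module.Flat.trans A R S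
  have hφ : (algebraMap R S).Flat := RingHom.flat_algebraMap_iff.2 ‹_›
  let G' := (bc S).obj D.G
  let E' := (bc S).obj D.E
  let β' : E' ⟶ G' := (bc S).map D.β
  obtain ⟨u⟩ := Groth.L10.FlatDescent.nonempty_iso_of_iso (algebraMap R S) hφ D.eG
  have hz : ∀ i, i < a → IsZero (G'.homology i) := fun i hi =>
    ((HH_iso_zero u i).1 ((isZero_HH_Q_iff _ i).2
      (((ModuleCat.extendScalars.{u, u, u} (algebraMap R S)).map_isZero (D.hK i hi)).of_iso
        (Groth.L10.FlatDescent.homologyIso (algebraMap R S) hφ K i))) )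
  obtain ⟨eT⟩ := toD_truncGE_iso (P := G') a hz
  have happ := isApprox_bc S D.β D.hβ
  haveI : QuasiIso (CochainComplex.truncGEMap β' a) := by
    rw [CochainComplex.quasiIso_truncGEMap_iff]
    intro i hi
    haveI := happ.1 i (by omega)
    haveI : IsIso (HomologicalComplex.homologyMap β' i) :=
      (NatIso.isIso_map_iff (DerivedCategory.homologyFunctorFactors (ModuleCat.{u} S) i) β').1
        (by exact this)
    rwa [quasiIsoAt_iff_isIso_homologyMap]
  haveI := (DerivedCategory.isIso_Q_map_iff_quasiIso _ (CochainComplex.truncGEMap β' a)).2 ‹_›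
  let T : DRing.Cx S := CochainComplex.truncGE E' a
  let eK : DRing.toD T ≅ DRing.toD ((bc S).obj K) :=
    asIso (DerivedCategory.Q.map (CochainComplex.truncGEMap β' a)) ≪≫ eT.symm ≪≫ u
  have hTv : DRing.VanishesOutside T a (max a D.bE) :=
    vanishesOutside_truncGE a (max a D.bE) fun i hi =>
      (ModuleCat.extendScalars.{u, u, u} (algebraMap R S)).map_isZero (D.hEv i (Or.inr (by omega)))
  refine pc_of_pc' (Groth.L10.RelPC.isRelPerfect_of_model A S (K := DRing.toD ((bc S).obj K)) T a (max a D.bE) hTv
    (fun i => ?_) eK).1 m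
  rcases lt_trichotomy i a with hi | rfl | hi
  · haveI := ModuleCat.subsingleton_of_isZero (hTv i (Or.inl hi))
    haveI : Subsingleton ((ModuleCat.restrictScalars.{u} (algebraMap A S)).obj (T.X i)) :=
      ModuleCat.subsingleton_of_isZero (Functor.map_isZero _ (hTv i (Or.inl hi)))
    exact ⟨inferInstance, inferInstance⟩
  · obtain ⟨q⟩ := truncGE_X_iso E' i
    obtain ⟨t⟩ := nonempty_coker (A := A) S D.E (i - 1) i
    haveI := D.finitePresentation
    haveI : (ModuleCat.extendScalars.{u, u, u} (algebraMap R S)).IsLeftAdjoint :=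
      (ModuleCat.extendRestrictScalarsAdj.{u, u, u} (algebraMap R S)).isLeftAdjoint
    let e₂ := q ≪≫ (ModuleCat.cokernelIsoRangeQuotient (E'.d (i - 1) i)).symm ≪≫
      (PreservesCokernel.iso (ModuleCat.extendScalars.{u, u, u} (algebraMap R S)) (D.E.d (i - 1) i)).symm ≪≫
      (ModuleCat.extendScalars.{u, u, u} (algebraMap R S)).mapIso (ModuleCat.cokernelIsoRangeQuotient (D.E.d (i - 1) i))
    obtain ⟨v⟩ := Groth.L02.PC.extendScalars_equiv (S := S) (ModuleCat.of R D.C)
    haveI := hS
    refine ⟨Module.FinitePresentation.of_equiv (v.symm.trans e₂.toLinearEquiv.symm), ?_⟩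
    refine Module.Flat.of_linearEquiv (?_ :
      ((ModuleCat.restrictScalars.{u} (algebraMap A S)).obj (T.X i)) ≃ₗ[A] (S ⊗[R] D.C))
    exact (((ModuleCat.restrictScalars.{u} (algebraMap A S)).mapIso
      (q ≪≫ (ModuleCat.cokernelIsoRangeQuotient (E'.d (i - 1) i)).symm)) ≪≫
        (PreservesCokernel.iso (ModuleCat.restrictScalars.{u} (algebraMap A S)) (E'.d (i - 1) i))).toLinearEquiv.trans t
  · haveI := (D.hEf i).1; haveI := (D.hEf i).2
    obtain ⟨v⟩ := Groth.L02.PC.extendScalars_equiv (S := S) (D.E.X i)
    let w : T.X i ≅ E'.X i := CochainComplex.truncGEXIso E' a i hi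
    haveI : Module.FinitePresentation S (S ⊗[R] D.E.X i) := Module.finitePresentation_of_projective S _
    refine ⟨Module.FinitePresentation.of_equiv (w.toLinearEquiv.trans v).symm, ?_⟩
    haveI : Module.Flat R (D.E.X i) := inferInstance
    haveI : Module.Flat S (E'.X i) := Module.Flat.of_linearEquiv v
    haveI : Module.Flat A ((ModuleCat.restrictScalars.{u} (algebraMap A S)).obj (E'.X i)) :=
      Groth.L20.TorAmp.flat_restrict (A := A) (E'.X i)
    exact Module.Flat.of_linearEquiv ((ModuleCat.restrictScalars.{u} (algebraMap A S)).mapIso w).toLinearEquiv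

end Model

/-- the flat locus gives a neighbourhood -/
theorem exists_away [Algebra.FinitePresentation A R] {a b : ℤ} (K : DRing.Cx R)
    (hpc : DRing.IsPseudoCoherent R (a - 1) (DRing.toD K))
    (hlo : ∀ i, i < a → IsZero (K.homology i)) (hhi : ∀ i, b < i → IsZero (K.homology i))
    (p : Ideal R) [p.IsPrime]
    (hp : DRing.HasTorAmplitudeIn A a b (DRing.toD
      ((rs (Localization.AtPrime p)).obj ((bc (Localization.AtPrime p)).obj K)))) :
    ∃ g, g ∉ p ∧ (∀ m : ℤ, DRing.IsPseudoCoherent (Localization.Away g) m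
        (DRing.toD ((bc (Localization.Away g)).obj K))) ∧
      ∀ (q : Ideal R) [q.IsPrime], g ∉ q → DRing.HasTorAmplitudeIn A a b (DRing.toD
        ((rs (Localization.AtPrime q)).obj ((bc (Localization.AtPrime q)).obj K))) := by
  obtain ⟨D⟩ := exists_model K hpc hlo hhi
  haveI := D.finitePresentation
  letI : Module A D.C := Module.compHom D.C (algebraMap A R)
  haveI : IsScalarTower A R D.C := IsScalarTower.of_algebraMap_smul fun _ _ => rfl
  have key : ∀ (T : Submonoid R) (S : Type u) [CommRing S] [Algebra R S] [IsLocalization T S] [Algebra A S]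
      [IsScalarTower A R S], Module.Flat A (S ⊗[R] D.C) ↔ Module.Flat A (LocalizedModule T D.C) := by
    intro T S _ _ _ _ _
    let e := ((IsLocalizedModule.linearEquiv T (TensorProduct.mk R S D.C 1)
      (LocalizedModule.mkLinearMap T D.C)).restrictScalars A)
    exact ⟨fun h => haveI := h; Module.Flat.of_linearEquiv e.symm, fun h => haveI := h; Module.Flat.of_linearEquiv e⟩
  haveI : Module.Flat R (Localization.AtPrime p) := IsLocalization.flat _ p.primeCompl
  haveI : Module.Flat A (LocalizedModule p.primeCompl D.C) :=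
    (key p.primeCompl (Localization.AtPrime p)).1 ((D.amp_iff_flat (Localization.AtPrime p)).1 hp)
  obtain ⟨g, hg, hflat⟩ := Groth.L20.exists_flat_away (R := A) (M := D.C) p.primeCompl
  refine ⟨g, hg, fun m => ?_, fun q _ hq => ?_⟩
  · haveI : Module.Flat R (Localization.Away g) := IsLocalization.flat _ (Submonoid.powers g)
    haveI : Algebra.FinitePresentation R (Localization.Away g) := IsLocalization.Away.finitePresentation g
    haveI : Algebra.FinitePresentation A (Localization.Away g) := Algebra.FinitePresentation.trans A R _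
    exact D.pc_of_flat (Localization.Away g) ((key (Submonoid.powers g) _).2 hflat) m
  · haveI : Module.Flat R (Localization.AtPrime q) := IsLocalization.flat _ q.primeCompl
    exact (D.amp_iff_flat (Localization.AtPrime q)).2 ((key q.primeCompl _).2
      (Groth.L20.flat_localizedModule_of_le ((Submonoid.powers_le).mpr hq) hflat))

end Groth.Lead.PerfAmp
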